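import Groth.Agent.UnipLib.Unipotent
import Mathlib.LinearAlgebra.Eigenspace.Triangularizable
import Mathlib.LinearAlgebra.Finsupp.Supported

/-!
A commutative affine group over an algebraically closed field either has a nonzero primitive function
or its coordinate ring is spanned by the group-like elements.
-/

set_option autoImplicit false
set_option linter.style.haveILetI false
universe u v
open scoped TensorProduct
open WithConv

namespace Groth.Agent.GrpDimOne

open UnipLib

variable {k : Type u} [Field k]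

/-- Commuting operators on a nonzero finite-dimensional space have a common eigenvector. -/
theorem exists_common_eigen [IsAlgClosed k] {W : Type u} [AddCommGroup W] [Module k W] [FiniteDimensional k W]
    [Nontrivial W] {ι : Type v} (T : ι → Module.End k W) (hT : ∀ i j, T i * T j = T j * T i) :
    ∃ x : W, x ≠ 0 ∧ ∀ i, ∃ c : k, T i x = c • x := by
  classical
  let S : Set (Submodule k W) := {p | p ≠ ⊥ ∧ ∀ i, ∀ x ∈ p, T i x ∈ p}
  obtain ⟨p, ⟨hp0, hp⟩, hmin⟩ := wellFounded_lt.has_min S ⟨⊤, top_ne_bot, fun _ _ _ => trivial⟩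
  obtain ⟨x, hxp, hx0⟩ := (Submodule.ne_bot_iff p).1 hp0
  refine ⟨x, hx0, fun i => ?_⟩
  haveI : Nontrivial p := Submodule.nontrivial_iff_ne_bot.2 hp0
  obtain ⟨c, hc⟩ := Module.End.exists_eigenvalue ((T i).restrict (hp i) : Module.End k p)
  obtain ⟨y, hy, hy0⟩ := (Submodule.ne_bot_iff _).1 hc
  rw [Module.End.mem_eigenspace_iff] at hy
  have hy' : T i (y : W) = c • (y : W) := congrArg Subtype.val hy
  refine ⟨c, ?_⟩
  let q := p ⊓ Module.End.eigenspace (T i) c
  have hq : q ∈ S := by
    refine ⟨(Submodule.ne_bot_iff _).2 ⟨y, ⟨y.2, Module.End.mem_eigenspace_iff.2 hy'⟩,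
      fun h => hy0 (Subtype.ext h)⟩, fun j z hz => ⟨hp j z hz.1, ?_⟩⟩
    rw [SetLike.mem_coe, Module.End.mem_eigenspace_iff, ← Module.End.mul_apply, hT, Module.End.mul_apply,
      Module.End.mem_eigenspace_iff.1 hz.2, map_smul]
  have hqp : q = p := eq_of_le_of_not_lt inf_le_left (hmin q hq)
  exact Module.End.mem_eigenspace_iff.1 (hqp.symm ▸ hxp : x ∈ q).2

variable {A : Type u} [CommRing A] [HopfAlgebra k A]

/-- Linear functionals of translates are functions on the group. -/
theorem exists_coeff (π : A →ₗ[k] k) (f : A) : ∃ M : A, ∀ g : A →ₐ[k] k, g M = π (rho g f) := by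
  refine ⟨TensorProduct.lid k A (π.rTensor A (Coalgebra.comul (R := k) f)), fun g => ?_⟩
  rw [rho, AlgHom.convMul_apply]
  generalize Coalgebra.comul (R := k) f = t
  induction t using TensorProduct.induction_on with
  | zero => simp
  | add s t hs ht => simp only [map_add, hs, ht]
  | tmul a b =>
    rw [Algebra.TensorProduct.lift_tmul, LinearMap.rTensor_tmul, TensorProduct.lid_tmul, map_smul,
      ofConv_toConv, ofConv_toConv, AlgHom.id_apply, AlgHom.comp_apply, Algebra.ofId_apply,
      mul_comm a, ← Algebra.smul_def, map_smul, smul_eq_mul, smul_eq_mul, mul_comm]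

variable [IsAlgClosed k] [Algebra.FiniteType k A] [IsReduced A]

theorem rho_groupLike {l : A} (hl : IsGroupLikeElem k l) (g : A →ₐ[k] k) : rho g l = g l • l := by
  refine ext_pts (k := k) fun x => ?_
  rw [pt_rho_self, AlgHom.convMul_apply, hl.comul_eq_tmul_self, Algebra.TensorProduct.lift_tmul, map_smul]
  simp [mul_comm]

theorem rho_comm (hc : PtsComm k A) (g h : A →ₐ[k] k) (a : A) : rho g (rho h a) = rho h (rho g a) := by
  rw [rho_mul, rho_mul, hc]

theorem rho_counit (a : A) : rho (Bialgebra.counitAlgHom k A) a = a := by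
  refine ext_pts (k := k) fun x => ?_
  rw [pt_rho_self]
  have : toConv (Bialgebra.counitAlgHom k A) = (1 : WithConv (A →ₐ[k] k)) :=
    WithConv.ofConv_injective (AlgHom.ext fun b => by simp)
  rw [this, mul_one]

theorem isCocomm (hc : PtsComm k A) : Coalgebra.IsCocomm k A := by
  refine ⟨LinearMap.ext fun a => ?_⟩
  refine tensor_ext fun x y => ?_
  have h := congrArg (fun w : WithConv (A →ₐ[k] k) => w.ofConv a) (hc (toConv x) (toConv y))
  simp only [AlgHom.convMul_apply] at h
  rw [LinearMap.comp_apply, h]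
  generalize Coalgebra.comul (R := k) a = t
  induction t using TensorProduct.induction_on with
  | zero => simp
  | add s t hs ht => simp only [map_add, hs, ht]
  | tmul a b => simp [Algebra.TensorProduct.lift_tmul, mul_comm]

/-- The dichotomy: a nonzero primitive element, or spanned by characters. -/
theorem prim_or_span (hc : PtsComm k A) :
    (∃ v : A, v ≠ 0 ∧ IsPrim k v) ∨
      Submodule.span k (Set.range (GroupLike.val (R := k) (A := A))) = ⊤ := by
  classical
  let C : Submodule k A := Submodule.span k (Set.range (GroupLike.val (R := k) (A := A)))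
  by_cases hC : C = ⊤
  · exact Or.inr hC
  left
  obtain ⟨s₀, hs₀⟩ : ∃ s, s ∉ C := by
    by_contra! h
    exact hC (Submodule.eq_top_iff'.2 h)
  obtain ⟨V, hVfin, hsV, hV⟩ := exists_stable (k := k) ({s₀} : Finset A)
  haveI := hVfin
  have hCst : ∀ g : A →ₐ[k] k, ∀ c ∈ C, rho g c ∈ C := by
    intro g c hc'
    induction hc' using Submodule.span_induction with
    | mem x hx =>
      obtain ⟨l, rfl⟩ := hx
      rw [rho_groupLike l.2 g]
      exact C.smul_mem _ (Submodule.subset_span ⟨l, rfl⟩)
    | zero => rw [map_zero]; exact C.zero_mem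
    | add a b _ _ ha hb => rw [map_add]; exact C.add_mem ha hb
    | smul r a _ ha => rw [map_smul]; exact C.smul_mem _ ha
  let U : Submodule k V := C.comap V.subtype
  haveI : Nontrivial (V ⧸ U) := Submodule.Quotient.nontrivial_iff.2 fun e => hs₀
    (show (⟨s₀, hsV (by simp)⟩ : V) ∈ U by rw [e]; trivial)
  let R : (A →ₐ[k] k) → Module.End k V := fun g => (rho g).toLinearMap.restrict (hV g)
  have hRU : ∀ g, U ≤ U.comap (R g) := fun g x hx => hCst g x hx
  let T : (A →ₐ[k] k) → Module.End k (V ⧸ U) := fun g => Submodule.mapQ U U (R g) (hRU g)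
  obtain ⟨x, hx0, hx⟩ := exists_common_eigen T fun g h => by
    refine Submodule.linearMap_qext _ (LinearMap.ext fun v => ?_)
    show Submodule.Quotient.mk (R g (R h v)) = Submodule.Quotient.mk (R h (R g v))
    congr 1
    exact Subtype.ext (rho_comm hc g h v)
  choose χ hχ using hx
  obtain ⟨f₀, rfl⟩ := U.mkQ_surjective x
  have hfC : (f₀ : A) ∉ C := fun h => hx0 ((Submodule.Quotient.mk_eq_zero U).2 h)
  have hfχ : ∀ g, rho g (f₀ : A) - χ g • (f₀ : A) ∈ C := fun g =>
    (Submodule.Quotient.eq U).1 (show Submodule.Quotient.mk (R g f₀) = Submodule.Quotient.mk (χ g • f₀) from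
      (hχ g).trans rfl)
  -- the eigenvalue is a character
  obtain ⟨π, hπf, hπC⟩ := Submodule.exists_dual_map_eq_bot_of_notMem hfC inferInstance
  have hπ0 : ∀ c ∈ C, π c = 0 := fun c hc' => by
    have : π c ∈ C.map π := Submodule.mem_map_of_mem hc'
    rwa [hπC, Submodule.mem_bot] at this
  let π₁ : A →ₗ[k] k := (π (f₀ : A))⁻¹ • π
  have hπ₁f : π₁ f₀ = 1 := by simp [π₁, inv_mul_cancel₀ hπf]
  have hπ₁C : ∀ c ∈ C, π₁ c = 0 := fun c hc' => by simp [π₁, hπ0 c hc']
  obtain ⟨M, hM⟩ := exists_coeff π₁ (f₀ : A)
  have hMχ : ∀ g : A →ₐ[k] k, g M = χ g := fun g => by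
    have := hπ₁C _ (hfχ g)
    rw [map_sub, map_smul, hπ₁f, ← hM, sub_eq_zero] at this
    simpa using this
  have hMgl : IsGroupLikeElem k M := by
    refine isGroupLikeElem_of_forall ?_ fun x y => ?_
    · rw [← Bialgebra.counitAlgHom_apply, hM, rho_counit, hπ₁f]
    · have h1 : (x * y) M = π₁ (rho x.ofConv (rho y.ofConv (f₀ : A))) := by
        rw [rho_mul, toConv_ofConv, toConv_ofConv]
        exact hM (x * y).ofConv
      rw [h1, ← sub_add_cancel (rho y.ofConv (f₀ : A)) (χ y.ofConv • (f₀ : A)), map_add, map_add,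
        hπ₁C _ (hCst _ _ (hfχ _)), zero_add, map_smul, map_smul, ← hM, ← hMχ]
      simp [mul_comm]
  let γ₀ : GroupLike k A := ⟨M, hMgl⟩
  have hCmul : ∀ (l : GroupLike k A), ∀ c ∈ C, c * l.val ∈ C := by
    intro l c hc'
    induction hc' using Submodule.span_induction with
    | mem x hx =>
      obtain ⟨l', rfl⟩ := hx
      exact Submodule.subset_span ⟨l' * l, rfl⟩
    | zero => rw [zero_mul]; exact C.zero_mem
    | add a b _ _ ha hb => rw [add_mul]; exact C.add_mem ha hb
    | smul r a _ ha => rw [smul_mul_assoc]; exact C.smul_mem _ ha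
  have hinv : M * (γ₀⁻¹).val = 1 := congrArg GroupLike.val (mul_inv_cancel γ₀)
  let f : A := (f₀ : A) * (γ₀⁻¹).val
  have hf : f ∉ C := fun h => hfC (by
    have h2 := hCmul γ₀ f h
    rwa [show f * γ₀.val = (f₀ : A) from by
      show (f₀ : A) * (γ₀⁻¹).val * M = (f₀ : A)
      rw [mul_assoc, mul_comm _ M, hinv, mul_one]] at h2)
  have hfg : ∀ g : A →ₐ[k] k, rho g f - f ∈ C := by
    intro g
    have h1 : g M * g (γ₀⁻¹).val = 1 := by rw [← map_mul, hinv, map_one]
    have e : rho g f - f = g (γ₀⁻¹).val • ((rho g (f₀ : A) - χ g • (f₀ : A)) * (γ₀⁻¹).val) := by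
      simp only [f, map_mul, rho_groupLike (γ₀⁻¹).2 g, ← hMχ]
      rw [sub_mul, smul_sub, mul_smul_comm, smul_mul_assoc, smul_smul, mul_comm (g (γ₀⁻¹).val) (g M), h1, one_smul]
    rw [e]
    exact C.smul_mem _ (hCmul _ _ (hfχ g))
  -- coordinates in the basis of characters
  let b : Module.Basis (GroupLike k A) k C := Module.Basis.span linearIndep_groupLikeVal
  have hb : ∀ l, (b l : A) = l.val := fun l => Module.Basis.coe_span_apply linearIndep_groupLikeVal l
  let a : (A →ₐ[k] k) → GroupLike k A →₀ k := fun g => b.repr ⟨rho g f - f, hfg g⟩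
  let Rc : (A →ₐ[k] k) → Module.End k C := fun g => (rho g).toLinearMap.restrict (hCst g)
  have hRc : ∀ g (c : C) l, b.repr (Rc g c) l = g l.val * b.repr c l := by
    intro g c l
    have key : ((Finsupp.lapply l).comp b.repr.toLinearMap).comp (Rc g) =
        g l.val • (Finsupp.lapply l).comp b.repr.toLinearMap := b.ext fun j => by
      have : Rc g (b j) = g j.val • b j := Subtype.ext (by
        show rho g (b j : A) = g j.val • (b j : A)
        rw [hb, rho_groupLike j.2 g])
      simp only [LinearMap.comp_apply, LinearEquiv.coe_coe, Finsupp.lapply_apply, LinearMap.smul_apply, this,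
        map_smul, Module.Basis.repr_self, Finsupp.smul_apply, smul_eq_mul]
      rcases eq_or_ne j l with rfl | hne
      · rfl
      · simp [Finsupp.single_eq_of_ne (Ne.symm hne)]
    exact LinearMap.congr_fun key c
  have hsym : ∀ g h l, (g l.val - 1) * a h l = (h l.val - 1) * a g l := by
    intro g h l
    have e : Rc g ⟨_, hfg h⟩ - ⟨_, hfg h⟩ = Rc h ⟨_, hfg g⟩ - (⟨_, hfg g⟩ : C) := Subtype.ext (by
      show rho g (rho h f - f) - (rho h f - f) = rho h (rho g f - f) - (rho g f - f)
      rw [map_sub, map_sub, rho_comm hc g h]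
      abel)
    have := congrArg (fun c => b.repr c l) e
    simp only [map_sub, Finsupp.sub_apply, hRc] at this
    simp only [a, sub_mul, one_mul]
    linear_combination this
  obtain ⟨F, hF⟩ : ∃ F : Finset (GroupLike k A), ∀ g, ∀ l, a g l ≠ 0 → l ∈ F := by
    obtain ⟨V', hV'fin, hfV', hV'⟩ := exists_stable (k := k) ({f} : Finset A)
    haveI := hV'fin
    haveI : Module.Finite k (V'.comap C.subtype) :=
      Module.Finite.of_injective (C.subtype.restrict (p := V'.comap C.subtype) (q := V') fun x hx => hx)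
        fun x y h => Subtype.ext (Subtype.ext (congrArg (fun z : V' => (z : A)) h))
    obtain ⟨G, hG⟩ : (V'.comap C.subtype).FG := Module.Finite.iff_fg.1 inferInstance
    refine ⟨G.biUnion fun c => (b.repr c).support, fun g l hl => ?_⟩
    have hmem : (⟨rho g f - f, hfg g⟩ : C) ∈ Submodule.span k (G : Set C) := by
      rw [hG]
      exact V'.sub_mem (hV' g f (hfV' (by simp))) (hfV' (by simp))
    have hsupp : Submodule.span k (G : Set C) ≤ (Finsupp.supported k k
        ((G.biUnion fun c => (b.repr c).support : Finset _) : Set (GroupLike k A))).comap b.repr.toLinearMap :=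
      Submodule.span_le.2 fun c hc' => (Finsupp.mem_supported k (b.repr c)).2 fun j hj =>
        Finset.mem_biUnion.2 ⟨c, hc', hj⟩
    have := (Finsupp.mem_supported k (b.repr (⟨rho g f - f, hfg g⟩ : C))).1 (hsupp hmem) (Finsupp.mem_support_iff.2 hl)
    exact Finset.mem_coe.1 this
  have hex : ∀ l : GroupLike k A, l ≠ 1 → ∃ g : A →ₐ[k] k, g l.val - 1 ≠ 0 := by
    intro l hl
    by_contra! h
    exact hl (GroupLike.val_injective (ext_pts (k := k) fun g => by
      rw [sub_eq_zero.1 (h g)]; exact (map_one g).symm))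
  choose hp hhp using hex
  let t : GroupLike k A → k := fun l => if hl : l = 1 then 0 else a (hp l hl) l / ((hp l hl) l.val - 1)
  have ht : ∀ g l, l ≠ 1 → a g l = t l * (g l.val - 1) := by
    intro g l hl
    have := hsym g (hp l hl) l
    simp only [t, dif_neg hl]
    rw [div_mul_eq_mul_div, eq_div_iff (hhp l hl)]
    linear_combination -this
  let u : C := ∑ l ∈ F, t l • b l
  have hu : ∀ l, b.repr u l = if l ∈ F then t l else 0 := by
    intro l
    simp [u, map_sum, Finsupp.finsetSum_apply, Finsupp.single_apply]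
  let f' : A := f - (u : A)
  have hf' : ∀ g : A →ₐ[k] k, rho g f' - f' = algebraMap k A (a g 1) := by
    intro g
    have e : (⟨rho g f - f, hfg g⟩ : C) - (Rc g u - u) = a g 1 • b 1 := by
      refine b.repr.injective (Finsupp.ext fun l => ?_)
      simp only [map_sub, map_smul, Finsupp.sub_apply, Finsupp.smul_apply, hRc, hu, Module.Basis.repr_self,
        smul_eq_mul]
      show a g l - _ = _
      rcases eq_or_ne l 1 with rfl | hl
      · simp [show g (1 : GroupLike k A).val = 1 from map_one g]
      · rw [Finsupp.single_eq_of_ne hl, mul_zero]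
        by_cases hlF : l ∈ F
        · rw [if_pos hlF, ht g l hl]; ring
        · rw [if_neg hlF]
          have : a g l = 0 := by_contra fun h => hlF (hF g l h)
          rw [this]; ring
    have e' := congrArg Subtype.val e
    rw [Algebra.algebraMap_eq_smul_one]
    simp only [Submodule.coe_smul, AddSubgroupClass.coe_sub, hb] at e'
    show rho g (f - (u : A)) - (f - (u : A)) = a g 1 • (1 : GroupLike k A).val
    rw [← e', map_sub]
    show _ = rho g f - f - (rho g (u : A) - (u : A))
    abel
  refine ⟨f' - algebraMap k A (Bialgebra.counitAlgHom k A f'), fun h => hf ?_, ?_⟩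
  · rw [show f = f' + (u : A) from (sub_add_cancel f _).symm, sub_eq_zero.1 h]
    refine C.add_mem ?_ u.2
    rw [Algebra.algebraMap_eq_smul_one]
    exact C.smul_mem _ (Submodule.subset_span ⟨1, rfl⟩)
  · refine isPrim_of_forall fun x y => ?_
    have h1 : ∀ z : WithConv (A →ₐ[k] k), (z * y) f' - z f' = a y.ofConv 1 := fun z => by
      have := congrArg z.ofConv (hf' y.ofConv)
      rw [map_sub, pt_rho_self, AlgHom.commutes] at this
      simpa using this
    have h2 := h1 1
    rw [one_mul, AlgHom.convOne_apply] at h2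
    simp only [Algebra.algebraMap_self, RingHom.id_apply] at h2
    show (x * y).ofConv _ = x.ofConv _ + y.ofConv _
    simp only [map_sub, AlgHom.commutes, Algebra.algebraMap_self, RingHom.id_apply, Bialgebra.counitAlgHom_apply]
    linear_combination h1 x - h2

end Groth.Agent.GrpDimOne
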